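import Cfsg.Agent.Lib.Comp.HdL.Base

set_option maxRecDepth 100000
set_option Elab.async false

namespace Cfsg.Lib.Comp.HdL

universe u

noncomputable def T1_R : List (List ℕ × ℕ) := (apd [([1],1),
 ([2],1),
 ([3],1),
 ([4],1),
 ([5],1),
 ([6],1),
 ([7],1),
 ([8],1),
 ([9],1),
 ([10],1),
 ([11],1),
 ([12],1),
 ([1,2,1,2,5],0),
 ([1,3],1),
 ([1,4],1),
 ([1,5],1),
 ([1,6,1,6,8],0),
 ([1,7],1),
 ([1,8],1),
 ([1,9,1,9,10],0),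
 ([1,10],1),
 ([2,3,2,3,6],0),
 ([2,4],1),
 ([2,5],1),
 ([2,6],1),
 ([2,7,2,7,9],0),
 ([2,8],1),
 ([2,9],1),
 ([2,10],1),
 ([3,4,3,4,7],0),
 ([3,5,3,5,8],0),
 ([3,6],1),
 ([3,7],1),
 ([3,8],1),
 ([3,9],1),
 ([3,10],1),
 ([4,5],1),
 ([4,6,4,6,9],0),
 ([4,7],1),
 ([4,8,4,8,10],0)]
 [([4,9],1),
 ([4,10],1),
 ([5,6],1),
 ([5,7,5,7,10],0),
 ([5,8],1),
 ([5,9],1),
 ([5,10],1),
 ([6,7],1),
 ([6,8],1),
 ([6,9],1),
 ([6,10],1),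
 ([7,8],1),
 ([7,9],1),
 ([7,10],1),
 ([8,9],1),
 ([8,10],1),
 ([9,10],1),
 ([11,2],2),
 ([11,1],1),
 ([11,3],1),
 ([11,4],1),
 ([11,5,11,5,1],0),
 ([11,6,11,6,3],0),
 ([11,7],1),
 ([11,8],1),
 ([11,9,11,9,7],0),
 ([11,10],1),
 ([12,3],2),
 ([12,1],1),
 ([12,2],1),
 ([12,4],1),
 ([12,5],1),
 ([12,6,12,6,2],0),
 ([12,7,12,7,4],0),
 ([12,8,12,8,5],0),
 ([12,9],1),
 ([12,10],1),
 ([2,11,2,3,12,3],2)])

noncomputable def T1_n_2 : Net :=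
 (Net.cons 12 (nat_lit 0x600)
 (Net.cons 6 (nat_lit 0x28010)
 (Net.cons 3 (nat_lit 0x102)
 (Net.cons 1 (nat_lit 0x249048)
 (Net.cons 1 (nat_lit 0x2080)
 (Net.cons 1 (nat_lit 0x1040)
 (Net.cons 3 (nat_lit 0x1c0182)
 (Net.cons 6 (nat_lit 0x28010)
 (Net.cons 12 (nat_lit 0x600)
 Net.nil)))))))))

noncomputable def T1_n_3 : Net :=
 (Net.cons 12 (nat_lit 0x202)
 (Net.cons 6 (nat_lit 0x24)
 (Net.cons 3 (nat_lit 0x2084)
 (Net.cons 1 (nat_lit 0x1040)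
 (Net.cons 1 (nat_lit 0x80010)
 (Net.cons 3 (nat_lit 0x6184)
 (Net.cons 6 (nat_lit 0x8026)
 (Net.cons 12 (nat_lit 0x202)
 Net.nil))))))))

noncomputable def T1_n_6 : Net :=
 (Net.cons 12 (nat_lit 0xa02)
 (Net.cons 6 (nat_lit 0xe002)
 (Net.cons 3 (nat_lit 0x6180)
 (Net.cons 1 (nat_lit 0x248040)
 (Net.cons 1 (nat_lit 0x492400)
 (Net.cons 1 (nat_lit 0x241000)
 (Net.cons 3 (nat_lit 0x141182)
 (Net.cons 6 (nat_lit 0xe002)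
 (Net.cons 12 (nat_lit 0xa02)
 Net.nil)))))))))

noncomputable def T1_n_11 : Net :=
 (Net.cons 12 (nat_lit 0x180)
 (Net.cons 6 (nat_lit 0x4014)
 (Net.cons 1 (nat_lit 0x8241)
 (Net.cons 1 (nat_lit 0x92090)
 (Net.cons 1 (nat_lit 0x1040)
 (Net.cons 3 (nat_lit 0x7000)
 (Net.cons 6 (nat_lit 0x4014)
 (Net.cons 12 (nat_lit 0x180)
 Net.nil))))))))

noncomputable def T1_n_12 : Net :=
 (Net.cons 12 (nat_lit 0xac8)
 (Net.cons 6 (nat_lit 0x28008)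
 (Net.cons 3 (nat_lit 0x80000)
 (Net.cons 1 (nat_lit 0x208241)
 (Net.cons 1 (nat_lit 0x2)
 (Net.cons 1 (nat_lit 0x1)
 (Net.cons 3 (nat_lit 0x84002)
 (Net.cons 6 (nat_lit 0x29008)
 (Net.cons 12 (nat_lit 0xac8)
 Net.nil)))))))))

noncomputable def T1_n : List Net := [Net.nil,
 Net.nil,
 T1_n_2,
 T1_n_3,
 Net.nil,
 Net.nil,
 T1_n_6,
 Net.nil,
 Net.nil,
 Net.nil,
 Net.nil,
 T1_n_11,
 T1_n_12]

theorem T1_n_ok : NetsOK 24 T1_n := netsOK_of (by decide +kernel)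

theorem T1_n_rel : Rels (gp T1_n) T1_R := rels_of_relsB (k := 5) T1_n_ok (by norm_num) (by decide +kernel)

theorem T1_fin : finB 24 T1_n [1,2,3,4,5,6,7,8,9,10,11,12] 21 (runH 24 T1_n (fun x p => ptInv (nth Net.nil T1_n x) p) iv T1_R [] ([1,2,3,4,5,6,7,8,9,10].map fun x => [x]) 0 []
  (apd [1,5,9,13,17,21,25,29,33,37,4,8,40,44,228,232,236,240,244,248,252,256,260,264,268,272,276,280,284,288,292,296,300,304,48,52,64,84,88,92,96,100,104,108,112,116,120,124,128,132,136,140,228,232,240,244,248,252,256,260]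
 [264,268,272,280,284,292,296,300,304,48,84,88,92,100,104,108,112,308,276,288,4,84,228])
  (defsH 24 T1_n (ones 360) [11,12,2,3,11,12,2] (Nat.shiftLeft 1 0) 0)) = true := by decide +kernel

theorem T1_idx : Idx.{u} iv (T1_R ++ []) ([1,2,3,4,5,6,7,8,9,10].map fun x => [x]) [1,2,3,4,5,6,7,8,9,10,11,12] 21 :=
  Reach.idx T1_n_ok (reach_runH T1_n_ok (fun x p _ => ptInv_gp T1_n_ok x p) T1_n_rel (reach_defsH T1_n_ok _ _ _ _ _ _) _ _) T1_fin (by norm_num)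

end Cfsg.Lib.Comp.HdL
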